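import Cfsg.Agent.H227.ThB.Eig
import Cfsg.Agent.H699.IBrGen
import Cfsg.Agent.Blocks.ExistsModular
import Cfsg.Agent.H904.SV.ThClasses
import Cfsg.Agent.Th.Final
import Cfsg.Agent.H227.ThB.RkR0
import Cfsg.Agent.H227.ThB.RkR1
import Cfsg.Agent.H227.ThB.RkR2
import Cfsg.Agent.H227.ThB.RkR6
import Cfsg.Agent.H227.ThB.RkR7
import Cfsg.Agent.H227.ThB.RkR8
import Cfsg.Agent.H227.ThB.RkR12
import Cfsg.Agent.H227.ThB.RkR14
import Cfsg.Agent.H227.ThB.RkR17
import Cfsg.Agent.H227.ThB.RkX5
import Cfsg.Agent.H227.ThB.RkX7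

/-!
# The lift of the 248-dimensional Brauer character of the Thompson group (helper227)

`beta g` is the value at the `3`-regular part of `g`.
-/

set_option autoImplicit false
set_option maxRecDepth 100000

namespace Cfsg.Agent.H227.ThB

open Cfsg IsLocalRing Module Cfsg.Agent.H657
open Cfsg.Agent.Th.Word Cfsg.Agent.Th.KOracle Cfsg.Agent.Th.COracleDef Cfsg.Agent.Th.IndexUpper
open Cfsg.Agent.Th.Gen248 Cfsg.Agent.Th.Hom248

attribute [local instance] Above.isAlgClosed

theorem exists_M3 : ∃ M : Ideal AlgInt, IsPModular 3 M := Blocks.ExistsModular.exists_isPModular Nat.prime_three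

/-- a maximal ideal above `3` -/
noncomputable def M3 : Ideal AlgInt := exists_M3.choose

theorem M3_spec : IsPModular 3 M3 := exists_M3.choose_spec

/-- a valuation ring above `3` -/
noncomputable def V3 : ValuationSubring ℂ := (exists_above M3_spec).choose

theorem V3_spec : Above M3 V3 := (exists_above M3_spec).choose_spec

instance : Fact (Nat.Prime 3) := ⟨Nat.prime_three⟩

instance : CharP (ResidueField V3) 3 := V3_spec.charP M3_spec

noncomputable instance : Algebra (ZMod 3) (ResidueField V3) := ZMod.algebra _ 3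

/-- the 248-dimensional representation over the residue field -/
noncomputable def sig : Representation (ResidueField V3) Cfsg.Spor.Th (Fin 248 → ResidueField V3) :=
  bch (ResidueField V3) rho

/-- the Brauer character -/
noncomputable def B (g : Cfsg.Spor.Th) : ℂ := bc 3 sig g

/-- the lift of the Brauer character -/
noncomputable def beta (g : Cfsg.Spor.Th) : ℂ := B (g ^ 3594553044992001)

theorem gen : IsGeneralizedCharacter Cfsg.Spor.Th beta :=
  H699.IBrLift.isGeneralizedCharacter_bc M3_spec V3_spec (k := 10) (m := 1536790528000) (N := 3594553044992001)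
    (by rw [Cfsg.Agent.Th.Final.card_Th]; norm_num) (by norm_num) (by decide) (by decide) sig

theorem B_conj (g h : Cfsg.Spor.Th) : B (h * g * h⁻¹) = B g := bc_conj 3 sig g h

theorem beta_conj (g h : Cfsg.Spor.Th) : beta (h * g * h⁻¹) = beta g := by
  unfold beta
  rw [conj_pow, B_conj]

theorem beta_of_isConj {g h : Cfsg.Spor.Th} (hc : IsConj g h) : beta g = beta h := by
  obtain ⟨x, hx⟩ := isConj_iff.1 hc
  rw [← hx, beta_conj]

theorem B_one : B 1 = 248 := by
  unfold B
  rw [H699.IBrLift.bc_one, finrank_fin_fun]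
  norm_num

theorem b1 : beta 1 = 248 := by
  unfold beta
  rw [one_pow, B_one]

/-- the values at the 3-regular elements -/
theorem beta_eq {g : Cfsg.Spor.Th} {n : ℕ} (hn : n ∣ 1536790528000) (hg : g ^ n = 1) : beta g = B g := by
  have h1 : g ^ 1536790528000 = 1 := by
    obtain ⟨c, hc⟩ := hn
    rw [hc, pow_mul, hg, one_pow]
  have h2 : (3594553044992001 : ℕ) = 1536790528000 * 2339 + 1 := by norm_num
  have h3 : g ^ 3594553044992001 = g := by
    rw [h2, pow_succ, pow_mul, h1, one_pow, one_mul]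
  exact congrArg B h3

/-! ### steps -/

theorem pow_red {g : Cfsg.Spor.Th} {n : ℕ} (hg : g ^ n = 1) {a q k : ℕ} (h : a = n * q + k) : g ^ a = g ^ k := by
  rw [h, pow_add, pow_mul, hg, one_pow, one_mul]

theorem step3 {g : Cfsg.Spor.Th} {n : ℕ} (hg : g ^ n = 1) (j q k : ℕ) (h : 3 * j = n * q + k) :
    B (g ^ k) = B (g ^ j) := by
  rw [← pow_red hg h, mul_comm, pow_mul]
  exact bc_three 3 rho (g ^ j)

theorem stepE {g x : Cfsg.Spor.Th} {n e : ℕ} (hg : g ^ n = 1) (hx : x * g * x⁻¹ = g ^ e) (j q k : ℕ)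
    (h : e * j = n * q + k) : B (g ^ k) = B (g ^ j) := by
  rw [← pow_red hg h, pow_mul, ← hx, conj_pow, B_conj]

theorem sumB {g : Cfsg.Spor.Th} {n : ℕ} (hg : g ^ n = 1) (hn : ¬ 3 ∣ n) {r : ℕ}
    (hr : ((rho g : Matrix (Fin 248) (Fin 248) (ZMod 3)) - 1).rank = r) :
    ∑ j ∈ Finset.range n, B (g ^ j) = (n : ℂ) * (248 - (r : ℂ)) := by
  have h1 := sum_bc (V := V3) sig hn hg
  have h2 : finrank (ResidueField V3) (LinearMap.range (sig g - 1)) = r := by
    rw [← hr]; exact range_bch (ResidueField V3) rho g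
  rw [h2, finrank_fin_fun] at h1
  exact h1

/-! ### words -/

/-- the letter -/
def ltr : ℕ → Lt
  | 1 => .a
  | 2 => .b
  | 3 => .c
  | 4 => .d
  | 5 => .e
  | 6 => .s
  | 7 => .S
  | 8 => .t
  | 9 => .T
  | 10 => .u
  | _ => .U

theorem rho_letter (n : ℕ) (h1 : 1 ≤ n) (h2 : n ≤ 11) : rho (gTh n) = gl (ltr n) := by
  interval_cases n
  · exact rho_of .a
  · exact rho_of .b
  · exact rho_of .c
  · exact rho_of .d
  · exact rho_of .e
  · exact rho_of .s
  · show rho ((PresentedGroup.of Cfsg.Spor.Th.Gen.s)⁻¹) = gl .S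
    rw [map_inv, rho_of]; exact (gl_linv .s).symm
  · exact rho_of .t
  · show rho ((PresentedGroup.of Cfsg.Spor.Th.Gen.t)⁻¹) = gl .T
    rw [map_inv, rho_of]; exact (gl_linv .t).symm
  · exact rho_of .u
  · show rho ((PresentedGroup.of Cfsg.Spor.Th.Gen.u)⁻¹) = gl .U
    rw [map_inv, rho_of]; exact (gl_linv .u).symm

theorem rho_word (w : List ℕ) (hw : ∀ n ∈ w, 1 ≤ n ∧ n ≤ 11) : rho (ev gTh w) = glW (w.map ltr) := by
  induction w with
  | nil => exact map_one _
  | cons n w ih =>
    rw [ev_cons, map_mul, ih fun k hk => hw k (List.mem_cons_of_mem _ hk),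
      rho_letter n (hw n List.mem_cons_self).1 (hw n List.mem_cons_self).2]
    rfl

end Cfsg.Agent.H227.ThB
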