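import Cfsg.Agent.H657.BrauerChar
import Cfsg.Agent.H953.Rank
import Mathlib.FieldTheory.Finite.Extension
import Mathlib.LinearAlgebra.Matrix.Charpoly.FiniteField

/-!
# Values of Brauer characters from ranks (helper227)

* `exists_eigen`: an endomorphism of order prime to the characteristic has an eigenbasis;
* `exists_mu`: `bc p σ (g ^ j)` is the sum of the `j`-th powers of the lifts of the eigenvalues;
* `sum_bc`: `∑ j < n, bc p σ (g ^ j) = n * (dim - rank (σ g - 1))`;
* `bc_three`: invariance under the Frobenius for matrices over the prime field.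
-/

set_option autoImplicit false
set_option linter.unusedSectionVars false

namespace Cfsg.Agent.H227.ThB

open Cfsg IsLocalRing Module Polynomial Cfsg.Agent.H657
open scoped Matrix

section eig

variable {K : Type*} [Field K] [IsAlgClosed K] {W : Type*} [AddCommGroup W] [Module K W] [FiniteDimensional K W]

theorem exists_eigen (f : Module.End K W) {n : ℕ} (hn : (n : K) ≠ 0) (hf : f ^ n = 1) :
    ∃ (b : Basis (Fin (finrank K W)) K W) (μ : Fin (finrank K W) → K),
      (∀ i, f (b i) = μ i • b i) ∧ ∀ i, μ i ^ n = 1 := by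
  classical
  have hss : Module.End.IsSemisimple f := by
    refine Module.End.isSemisimple_of_squarefree_aeval_eq_zero (p := Polynomial.X ^ n - 1) ?_ ?_
    · have h := Polynomial.separable_X_pow_sub_C (1 : K) hn one_ne_zero
      rw [map_one] at h
      exact h.squarefree
    · simp [hf]
  have htop := hss.iSup_eigenspace_eq_top
  have hint : DirectSum.IsInternal (fun μ : K => Module.End.eigenspace f μ) := by
    rw [DirectSum.isInternal_submodule_iff_iSupIndep_and_iSup_eq_top]
    exact ⟨Module.End.eigenspaces_iSupIndep f, htop⟩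
  let b₀ := hint.collectedBasis (fun μ => Module.finBasis K (Module.End.eigenspace f μ))
  have hb₀ : ∀ i, f (b₀ i) = i.1 • b₀ i := fun i =>
    Module.End.mem_eigenspace_iff.1 (hint.collectedBasis_mem _ i)
  have : Fintype (Σ μ : K, Fin (finrank K (Module.End.eigenspace f μ))) :=
    FiniteDimensional.fintypeBasisIndex b₀
  have e : (Σ μ : K, Fin (finrank K (Module.End.eigenspace f μ))) ≃ Fin (finrank K W) :=
    Fintype.equivFinOfCardEq (Module.finrank_eq_card_basis b₀).symm
  have hbe : ∀ i, f ((b₀.reindex e) i) = (e.symm i).1 • (b₀.reindex e) i := by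
    intro i
    rw [Basis.reindex_apply]
    exact hb₀ _
  refine ⟨b₀.reindex e, fun i => (e.symm i).1, hbe, fun i => ?_⟩
  have h1 : ∀ k : ℕ, (f ^ k) ((b₀.reindex e) i) = (e.symm i).1 ^ k • (b₀.reindex e) i := by
    intro k
    induction k with
    | zero => simp
    | succ k ih => rw [pow_succ', Module.End.mul_apply, ih, map_smul, hbe, smul_smul, pow_succ]
  have h2 := h1 n
  rw [hf, Module.End.one_apply] at h2
  have h3 : ((e.symm i).1 ^ n - 1) • (b₀.reindex e) i = 0 := by
    rw [sub_smul, ← h2, one_smul, sub_self]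
  rcases smul_eq_zero.1 h3 with h4 | h4
  · exact sub_eq_zero.1 h4
  · exact absurd h4 ((b₀.reindex e).ne_zero i)

theorem roots_pow_of_eigen {f : Module.End K W} {ι : Type*} [Fintype ι] [DecidableEq ι] (b : Basis ι K W) {μ : ι → K}
    (h : ∀ i, f (b i) = μ i • b i) (j : ℕ) :
    (LinearMap.charpoly (f ^ j)).roots = Finset.univ.val.map fun i => μ i ^ j := by
  have h1 : ∀ i, (f ^ j) (b i) = μ i ^ j • b i := by
    intro i
    induction j with
    | zero => simp
    | succ k ih => rw [pow_succ', Module.End.mul_apply, ih, map_smul, h, smul_smul, pow_succ]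
  have h2 : LinearMap.toMatrix b b (f ^ j) = Matrix.diagonal fun i => μ i ^ j := by
    ext i k
    rw [LinearMap.toMatrix_apply, h1, map_smul, Finsupp.smul_apply, Basis.repr_self, Matrix.diagonal_apply]
    by_cases hik : i = k
    · subst hik; simp
    · rw [if_neg hik, Finsupp.single_eq_of_ne hik, smul_zero]
  rw [← LinearMap.charpoly_toMatrix (f ^ j) b, h2, Matrix.charpoly_diagonal]
  rw [← Polynomial.roots_multiset_prod_X_sub_C (Finset.univ.val.map fun i => μ i ^ j), Multiset.map_map]
  rfl

theorem rank_of_eigen {f : Module.End K W} {ι : Type*} [Fintype ι] [DecidableEq ι] [DecidableEq K] (b : Basis ι K W)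
    {μ : ι → K} (h : ∀ i, f (b i) = μ i • b i) :
    finrank K (LinearMap.range (f - 1)) + (Finset.univ.filter fun i => μ i = 1).card = Fintype.card ι := by
  have h2 : LinearMap.toMatrix b b (f - 1) = Matrix.diagonal fun i => μ i - 1 := by
    ext i k
    rw [LinearMap.toMatrix_apply, LinearMap.sub_apply, h, Module.End.one_apply, map_sub, map_smul, Finsupp.sub_apply,
      Finsupp.smul_apply, Basis.repr_self, Matrix.diagonal_apply]
    by_cases hik : i = k
    · subst hik; simp
    · rw [if_neg hik, Finsupp.single_eq_of_ne hik, smul_zero, sub_zero]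
  have h3 : finrank K (LinearMap.range (f - 1)) = (Matrix.diagonal fun i => μ i - 1 : Matrix ι ι K).rank := by
    rw [← h2, Matrix.rank_eq_finrank_range_toLin _ b b, Matrix.toLin_toMatrix]
  rw [h3, Matrix.rank_diagonal]
  have h4 : Fintype.card {i // μ i - 1 ≠ 0} = (Finset.univ.filter fun i => ¬ μ i = 1).card := by
    rw [Fintype.card_subtype]
    congr 1
    ext i
    simp [sub_eq_zero]
  rw [h4, add_comm]
  exact Finset.card_filter_add_card_filter_not _

end eig

section bc

variable {V : ValuationSubring ℂ} {G : Type*} [Group G]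

attribute [local instance] Above.isAlgClosed

variable {W : Type*} [AddCommGroup W] [Module (ResidueField V) W] [FiniteDimensional (ResidueField V) W]

theorem lift_one {p : ℕ} [Fact p.Prime] [CharP (ResidueField V) p] : lift p (1 : ResidueField V) = 1 := by
  have h2 := lift_residue (V := V) (p := p) (z := 1) ⟨1, by
    simpa using (Fact.out : p.Prime).one_lt.ne', by simp⟩
  rw [map_one] at h2
  simpa using h2

theorem lift_pow {p : ℕ} [Fact p.Prime] [CharP (ResidueField V) p] {r : ResidueField V} (hr : IsRU p r) (j : ℕ) :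
    lift p (r ^ j) = lift p r ^ j := by
  obtain ⟨z, hz, hz1, hz2⟩ := lift_spec hr
  have h1 : IsRU p ((z ^ j : V) : ℂ) := by
    obtain ⟨n, hn, hzn⟩ := hz
    exact ⟨n, hn, by push_cast; rw [← pow_mul, mul_comm, pow_mul, hzn, one_pow]⟩
  have h2 := lift_residue h1
  rw [map_pow, hz1] at h2
  rw [h2, hz2]
  push_cast
  rfl

theorem exists_mu {p : ℕ} [Fact p.Prime] [CharP (ResidueField V) p] (σ : Representation (ResidueField V) G W) {g : G}
    {n : ℕ} (hn : ¬ p ∣ n) (hg : g ^ n = 1) :
    ∃ μ : Fin (finrank (ResidueField V) W) → ℂ, (∀ j : ℕ, bc p σ (g ^ j) = ∑ i, μ i ^ j) ∧ (∀ i, μ i ^ n = 1) ∧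
      finrank (ResidueField V) (LinearMap.range (σ g - 1)) + (Finset.univ.filter fun i => μ i = 1).card =
        finrank (ResidueField V) W := by
  classical
  have hnK : (n : ResidueField V) ≠ 0 := fun h => hn ((CharP.cast_eq_zero_iff _ p _).1 h)
  have hf : (σ g) ^ n = 1 := by rw [← map_pow, hg, map_one]
  obtain ⟨b, μ, h1, h2⟩ := exists_eigen (σ g) hnK hf
  have hRU : ∀ i, IsRU p (μ i) := fun i => ⟨n, hn, h2 i⟩
  refine ⟨fun i => lift p (μ i), fun j => ?_, fun i => ?_, ?_⟩
  · unfold bc
    rw [map_pow, roots_pow_of_eigen b h1 j, Multiset.map_map]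
    show ∑ i, lift p (μ i ^ j) = _
    exact Finset.sum_congr rfl fun i _ => lift_pow (hRU i) j
  · rw [← lift_pow (hRU i), h2, lift_one]
  · have h3 := rank_of_eigen b h1
    rw [Fintype.card_fin] at h3
    refine Eq.trans ?_ h3
    congr 2
    ext i
    simp only [Finset.mem_filter, Finset.mem_univ, true_and]
    constructor
    · intro h
      obtain ⟨z, hz, hz1, hz2⟩ := lift_spec (hRU i)
      rw [hz2] at h
      have : z = 1 := Subtype.ext (by simpa using h)
      rw [← hz1, this, map_one]
    · intro h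
      rw [h, lift_one]

/-- **the sum over a cyclic group** -/
theorem sum_bc {p : ℕ} [Fact p.Prime] [CharP (ResidueField V) p] (σ : Representation (ResidueField V) G W) {g : G}
    {n : ℕ} (hn : ¬ p ∣ n) (hg : g ^ n = 1) :
    ∑ j ∈ Finset.range n, bc p σ (g ^ j) =
      (n : ℂ) * ((finrank (ResidueField V) W : ℂ) - (finrank (ResidueField V) (LinearMap.range (σ g - 1)) : ℂ)) := by
  classical
  obtain ⟨μ, h1, h2, h3⟩ := exists_mu σ hn hg
  have h4 : ∀ i, ∑ j ∈ Finset.range n, μ i ^ j = if μ i = 1 then (n : ℂ) else 0 := by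
    intro i
    split_ifs with h
    · rw [h]; simp
    · have := mul_neg_geom_sum (μ i) n
      rw [h2, sub_self] at this
      rcases mul_eq_zero.1 this with h5 | h5
      · exact absurd (sub_eq_zero.1 h5).symm h
      · exact h5
  rw [Finset.sum_congr rfl fun j _ => h1 j, Finset.sum_comm, Finset.sum_congr rfl fun i _ => h4 i, ← Finset.sum_filter,
    Finset.sum_const, nsmul_eq_mul]
  have h5 : ((Finset.univ.filter fun i => μ i = 1).card : ℂ) =
      (finrank (ResidueField V) W : ℂ) - (finrank (ResidueField V) (LinearMap.range (σ g - 1)) : ℂ) := by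
    have h6 : (finrank (ResidueField V) (LinearMap.range (σ g - 1)) : ℂ) +
        ((Finset.univ.filter fun i => μ i = 1).card : ℂ) = (finrank (ResidueField V) W : ℂ) := by
      exact_mod_cast h3
    rw [← h6]; ring
  rw [h5, mul_comm]

/-! ### representations defined over the prime field -/

variable {n : ℕ}

/-- base change of a matrix representation over the prime field -/
noncomputable def bch (k : Type*) [Field k] [Algebra (ZMod 3) k] (ρ : G →* GL (Fin n) (ZMod 3)) :
    Representation k G (Fin n → k) :=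
  (Matrix.toLinAlgEquiv' : Matrix (Fin n) (Fin n) k ≃ₐ[k] _).toAlgHom.toRingHom.toMonoidHom.comp
    (((algebraMap (ZMod 3) k).mapMatrix (m := Fin n)).toMonoidHom.comp ((Units.coeHom _).comp ρ))

theorem bch_apply (k : Type*) [Field k] [Algebra (ZMod 3) k] (ρ : G →* GL (Fin n) (ZMod 3)) (g : G) :
    bch k ρ g = Matrix.toLin' ((ρ g : Matrix (Fin n) (Fin n) (ZMod 3)).map (algebraMap (ZMod 3) k)) := rfl

theorem charpoly_bch (k : Type*) [Field k] [Algebra (ZMod 3) k] (ρ : G →* GL (Fin n) (ZMod 3)) (g : G) :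
    LinearMap.charpoly (bch k ρ g) = (ρ g : Matrix (Fin n) (Fin n) (ZMod 3)).charpoly.map (algebraMap (ZMod 3) k) := by
  rw [bch_apply, ← Matrix.charpoly_map, Matrix.charpoly_toLin']

theorem bc_three (p : ℕ) [Algebra (ZMod 3) (ResidueField V)] (ρ : G →* GL (Fin n) (ZMod 3)) (g : G) :
    bc p (bch (ResidueField V) ρ) (g ^ 3) = bc p (bch (ResidueField V) ρ) g := by
  have : Fact (Nat.Prime 3) := ⟨Nat.prime_three⟩
  unfold bc
  rw [charpoly_bch, charpoly_bch, map_pow, Units.val_pow_eq_pow_val, ZMod.charpoly_pow_card]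

theorem range_bch (k : Type*) [Field k] [Algebra (ZMod 3) k] (ρ : G →* GL (Fin n) (ZMod 3)) (g : G) :
    finrank k (LinearMap.range (bch k ρ g - 1)) = ((ρ g : Matrix (Fin n) (Fin n) (ZMod 3)) - 1).rank := by
  rw [← H953.rank_map (algebraMap (ZMod 3) k)]
  have h1 : (((ρ g : Matrix (Fin n) (Fin n) (ZMod 3)) - 1).map (algebraMap (ZMod 3) k)) =
      (ρ g : Matrix (Fin n) (Fin n) (ZMod 3)).map (algebraMap (ZMod 3) k) - 1 := by
    rw [Matrix.map_sub _ (map_sub _), Matrix.map_one _ (map_zero _) (map_one _)]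
  rw [h1, bch_apply]
  have h2 : Matrix.toLin' ((ρ g : Matrix (Fin n) (Fin n) (ZMod 3)).map (algebraMap (ZMod 3) k)) - 1 =
      Matrix.toLin' ((ρ g : Matrix (Fin n) (Fin n) (ZMod 3)).map (algebraMap (ZMod 3) k) - 1) := by
    rw [map_sub, Matrix.toLin'_one]; rfl
  rw [h2]
  rfl

end bc

end Cfsg.Agent.H227.ThB
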