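import Cfsg.Agent.H227.ThB.Two
import Cfsg.Agent.H552.Th.FiveTh

/-!
# `beta` at the elements of order 5, 10, 20 (helper227)
-/

set_option autoImplicit false

namespace Cfsg.Agent.H227.ThB

open Cfsg Cfsg.Agent.Th.Word Cfsg.Agent.Th.IndexUpper

theorem b5 : ∀ g : Cfsg.Spor.Th, orderOf g = 5 → beta g = -2 := by
  intro g hg
  rw [beta_of_isConj (H552.ThFive.th_conj5 g hg), beta_X5]

theorem b10 : ∀ g : Cfsg.Spor.Th, orderOf g = 10 → beta g = 2 := by
  intro g hg
  rw [beta_of_isConj (H552.ThFive.th_conj10 g hg), beta_wd8]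

theorem b20 : ∀ g : Cfsg.Spor.Th, orderOf g = 20 → beta g = 0 := by
  intro g hg
  rw [beta_of_isConj (H552.ThFive.th_conj20 g hg), beta_wd14]

end Cfsg.Agent.H227.ThB
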