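import Cfsg.Agent.H227.ThB.Val

/-!
# The values of `beta` at the representatives (helper227)

`beta_wd0`, ..., `beta_wd17`, `beta_X5`, `beta_X7`.
-/

set_option autoImplicit false
set_option maxRecDepth 100000

namespace Cfsg.Agent.H227.ThB

open Cfsg Cfsg.Agent.Th.Word Cfsg.Agent.Th.IndexUpper

theorem beta_wd0 : beta (ev gTh (H904.SV.Th.wd 0)) = -8 := by
  have h : H904.SV.Th.wd 0 = [1] := rfl
  rw [h, beta_eq (n := 2) (by norm_num) one_R0, val_R0]

theorem beta_wd1 : beta (ev gTh (H904.SV.Th.wd 1)) = 8 := by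
  have h : H904.SV.Th.wd 1 = [3, 4, 3, 4] := rfl
  rw [h, beta_eq (n := 4) (by norm_num) one_R1, val_R1]

theorem beta_wd2 : beta (ev gTh (H904.SV.Th.wd 2)) = 0 := by
  have h : H904.SV.Th.wd 2 = [11, 4, 10, 4, 10, 4, 3, 4] := rfl
  rw [h, beta_eq (n := 4) (by norm_num) one_R2, val_R2]

theorem beta_wd6 : beta (ev gTh (H904.SV.Th.wd 6)) = 0 := by
  have h : H904.SV.Th.wd 6 = [4, 3] := rfl
  rw [h, beta_eq (n := 8) (by norm_num) one_R6, val_R6]

theorem beta_wd7 : beta (ev gTh (H904.SV.Th.wd 7)) = 0 := by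
  have h : H904.SV.Th.wd 7 = [4, 10, 4, 6, 8, 11] := rfl
  rw [h, beta_eq (n := 8) (by norm_num) one_R7, val_R7]

theorem beta_wd8 : beta (ev gTh (H904.SV.Th.wd 8)) = 2 := by
  have h : H904.SV.Th.wd 8 = [6, 4, 10, 4, 11] := rfl
  rw [h, beta_eq (n := 10) (by norm_num) one_R8, val_R8]

theorem beta_wd12 : beta (ev gTh (H904.SV.Th.wd 12)) = -1 := by
  have h : H904.SV.Th.wd 12 = [8, 6, 11, 3] := rfl
  rw [h, beta_eq (n := 14) (by norm_num) one_R12, val_R12]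

theorem beta_wd14 : beta (ev gTh (H904.SV.Th.wd 14)) = 0 := by
  have h : H904.SV.Th.wd 14 = [4, 6, 8, 10] := rfl
  rw [h, beta_eq (n := 20) (by norm_num) one_R14, val_R14]

theorem beta_wd17 : beta (ev gTh (H904.SV.Th.wd 17)) = 1 := by
  have h : H904.SV.Th.wd 17 = [4, 5, 7, 3] := rfl
  rw [h, beta_eq (n := 28) (by norm_num) one_R17, val_R17]

theorem beta_X5 : beta (ev gTh Cfsg.Agent.CpAutTh.Data.X5) = -2 := by
  have h : Cfsg.Agent.CpAutTh.Data.X5 = [4, 7, 10, 4, 10] := rfl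
  rw [h, beta_eq (n := 5) (by norm_num) one_X5, val_X5]

theorem beta_X7 : beta (ev gTh Cfsg.Agent.CpAutTh.Data.X7) = 3 := by
  have h : Cfsg.Agent.CpAutTh.Data.X7 = [6] := rfl
  rw [h, beta_eq (n := 7) (by norm_num) one_X7, val_X7]

end Cfsg.Agent.H227.ThB
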