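import Cfsg.Agent.H227.ThB.Five
import Cfsg.Agent.H653.ThE.Fields
import Cfsg.Agent.H871.Th7.Main

/-!
# `beta` at the elements of order 4, 8, 7, 14, 28 (helper227)
-/

set_option autoImplicit false

namespace Cfsg.Agent.H227.ThB

open Cfsg Cfsg.Agent.Th.Word Cfsg.Agent.Th.IndexUpper

theorem beta_conj1 {g : Cfsg.Spor.Th} (h : IsConj (H653.ThE.R 1) g) : beta g = 8 := by
  rw [← beta_of_isConj h]
  exact beta_wd1

theorem beta_conj2 {g : Cfsg.Spor.Th} (h : IsConj (H653.ThE.R 2) g) : beta g = 0 := by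
  rw [← beta_of_isConj h]
  exact beta_wd2

theorem b4 : ∀ g : Cfsg.Spor.Th, orderOf g = 4 → beta g = 0 ∨ beta g = 8 := by
  intro g hg
  rcases H653.ThE.conj4 hg with h | h
  · exact Or.inr (beta_conj1 h)
  · exact Or.inl (beta_conj2 h)

theorem b8 : ∀ g : Cfsg.Spor.Th, orderOf g = 8 → beta g = 0 := by
  intro g hg
  rcases H653.ThE.conj8 hg with h | h
  · rw [← beta_of_isConj h]
    exact beta_wd6
  · rw [← beta_of_isConj h]
    exact beta_wd7

theorem b7 : ∀ g : Cfsg.Spor.Th, orderOf g = 7 → beta g = 3 := by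
  intro g hg
  rw [beta_of_isConj (H871.Th7.conj7 g hg)]
  exact beta_X7

theorem b14 : ∀ g : Cfsg.Spor.Th, orderOf g = 14 → beta g = -1 := by
  intro g hg
  rw [beta_of_isConj (H871.Th7.conj14 g hg), beta_wd12]

theorem b28 : ∀ g : Cfsg.Spor.Th, orderOf g = 28 → beta g = 1 := by
  intro g hg
  rw [beta_of_isConj (H871.Th7.conj28 g hg), beta_wd17]

theorem conj_of_eight {g : Cfsg.Spor.Th} (hg : orderOf g = 4) (hb : beta g = 8) : IsConj (H653.ThE.R 1) g := by
  rcases H653.ThE.conj4 hg with h | h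
  · exact h
  · rw [beta_conj2 h] at hb
    norm_num at hb

theorem conj_of_zero {g : Cfsg.Spor.Th} (hg : orderOf g = 4) (hb : beta g = 0) : IsConj (H653.ThE.R 2) g := by
  rcases H653.ThE.conj4 hg with h | h
  · rw [beta_conj1 h] at hb
    norm_num at hb
  · exact h

theorem c4a : ∀ g : Cfsg.Spor.Th, orderOf g = 4 → beta g = 8 →
    ¬ 3 ^ 4 ∣ Nat.card (Subgroup.centralizer {g}) :=
  fun _ hg hb => H653.ThE.c4A (conj_of_eight hg hb)

theorem c4b : ∀ g : Cfsg.Spor.Th, orderOf g = 4 → beta g = 0 →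
    ¬ 3 ^ 2 ∣ Nat.card (Subgroup.centralizer {g}) :=
  fun _ hg hb => H653.ThE.c4B (conj_of_zero hg hb)

theorem n4a : 6300 * Nat.card {g : Cfsg.Spor.Th // orderOf g = 4 ∧ beta g = 8} ≤ Nat.card Cfsg.Spor.Th := by
  refine le_trans (Nat.mul_le_mul_left _ ?_) H653.ThE.n4A
  refine Nat.card_le_card_of_injective
    (fun g : {g : Cfsg.Spor.Th // orderOf g = 4 ∧ beta g = 8} =>
      (⟨g.1, conj_of_eight g.2.1 g.2.2⟩ : {y : Cfsg.Spor.Th // IsConj (H653.ThE.R 1) y})) ?_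
  intro a b hab
  exact Subtype.ext (congrArg (fun t => t.1) hab)

end Cfsg.Agent.H227.ThB
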