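import Cfsg.Agent.H227.ThB.Main
import Cfsg.Agent.MonsterX.ThOneClass

/-!
# `beta` at the involutions (helper227)
-/

set_option autoImplicit false

namespace Cfsg.Agent.H227.ThB

open Cfsg Cfsg.Agent.Th.Word Cfsg.Agent.Th.IndexUpper

theorem b2 : ∀ g : Cfsg.Spor.Th, orderOf g = 2 → beta g = -8 := by
  intro g hg
  have h1 : IsConj g (gTh 1) := MonsterX.ThOneClass.oneClass g (gTh 1) hg MonsterX.ThOneClass.orderOf_a
  rw [beta_of_isConj h1]
  have h2 : ev gTh (H904.SV.Th.wd 0) = gTh 1 := ev_singleton gTh 1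
  rw [← h2, beta_wd0]

end Cfsg.Agent.H227.ThB
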