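import Cfsg.Agent.H227.ThB.Base

/-!
# Values of the 248-dimensional Brauer character of the Thompson group (helper227)
-/

set_option autoImplicit false
set_option maxRecDepth 100000

namespace Cfsg.Agent.H227.ThB

open Cfsg IsLocalRing Module Cfsg.Agent.H657
open Cfsg.Agent.Th.Word Cfsg.Agent.Th.KOracle Cfsg.Agent.Th.COracleDef Cfsg.Agent.Th.IndexUpper
open Cfsg.Agent.Th.Gen248 Cfsg.Agent.Th.Hom248 Cfsg.Agent.KFacts.Th.Main

/-- powers of a word -/
def rp (w : List ℕ) : ℕ → List ℕ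
  | 0 => []
  | n + 1 => w ++ rp w n

theorem ev_rp (w : List ℕ) (n : ℕ) : ev gTh (rp w n) = ev gTh w ^ n := by
  induction n with
  | zero => rw [pow_zero]; rfl
  | succ n ih =>
    show ev gTh (w ++ rp w n) = _
    rw [ev_append, ih, pow_succ']

theorem ev1 {w : List ℕ} (h : corc w = true) : ev gTh w = 1 :=
  Cfsg.Agent.Th.COracleSound.corc_sound ctx.inv ctx.C h

theorem conj_of {x u v : List ℕ} (k : ℕ) (h : corc (x ++ (rp u k ++ (iw x ++ iw v))) = true) :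
    ev gTh x * ev gTh u ^ k * (ev gTh x)⁻¹ = ev gTh v := by
  have h1 := ev1 h
  rw [ev_append, ev_append, ev_append, ev_iw gTh_inv, ev_iw gTh_inv, ev_rp, ← mul_assoc, ← mul_assoc] at h1
  exact mul_inv_eq_one.1 h1

theorem conj_pow_of {x u : List ℕ} (e : ℕ) (h : corc (x ++ (u ++ (iw x ++ iw (rp u e)))) = true) :
    ev gTh x * ev gTh u * (ev gTh x)⁻¹ = ev gTh u ^ e := by
  have h1 := ev1 h
  rw [ev_append, ev_append, ev_append, ev_iw gTh_inv, ev_iw gTh_inv, ev_rp, ← mul_assoc, ← mul_assoc] at h1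
  exact mul_inv_eq_one.1 h1

theorem B_of_conj {x g v : Cfsg.Spor.Th} (h : x * g * x⁻¹ = v) : B g = B v := by
  rw [← h, B_conj]

theorem B_pow_of {x u v : List ℕ} (k : ℕ) (h : corc (x ++ (rp u k ++ (iw x ++ iw v))) = true) :
    B (ev gTh u ^ k) = B (ev gTh v) := B_of_conj (conj_of k h)

theorem one_of {u : List ℕ} (n : ℕ) (h : corc (rp u n) = true) : ev gTh u ^ n = 1 := by
  rw [← ev_rp]; exact ev1 h

theorem rank_of {u : List ℕ} {r : ℕ} {l : List Lt} (hl : u.map ltr = l) (hu : ∀ n ∈ u, 1 ≤ n ∧ n ≤ 11)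
    (h : ((glW l : Matrix (Fin 248) (Fin 248) (ZMod 3)) - 1).rank = r) :
    ((rho (ev gTh u) : Matrix (Fin 248) (Fin 248) (ZMod 3)) - 1).rank = r := by
  rw [rho_word u hu, hl]; exact h

theorem one_R0 : ev gTh [1] ^ 2 = 1 := one_of _ (by decide +kernel)

theorem rk_R0 : ((rho (ev gTh [1]) : Matrix (Fin 248) (Fin 248) (ZMod 3)) - 1).rank = 128 :=
  rank_of rfl (by decide) RkR0.rank_eq

theorem one_R1 : ev gTh [3, 4, 3, 4] ^ 4 = 1 := one_of _ (by decide +kernel)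

theorem rk_R1 : ((rho (ev gTh [3, 4, 3, 4]) : Matrix (Fin 248) (Fin 248) (ZMod 3)) - 1).rank = 184 :=
  rank_of rfl (by decide) RkR1.rank_eq

theorem one_R2 : ev gTh [11, 4, 10, 4, 10, 4, 3, 4] ^ 4 = 1 := one_of _ (by decide +kernel)

theorem rk_R2 : ((rho (ev gTh [11, 4, 10, 4, 10, 4, 3, 4]) : Matrix (Fin 248) (Fin 248) (ZMod 3)) - 1).rank = 188 :=
  rank_of rfl (by decide) RkR2.rank_eq

theorem one_R6 : ev gTh [4, 3] ^ 8 = 1 := one_of _ (by decide +kernel)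

theorem rk_R6 : ((rho (ev gTh [4, 3]) : Matrix (Fin 248) (Fin 248) (ZMod 3)) - 1).rank = 216 :=
  rank_of rfl (by decide) RkR6.rank_eq

theorem one_R7 : ev gTh [4, 10, 4, 6, 8, 11] ^ 8 = 1 := one_of _ (by decide +kernel)

theorem rk_R7 : ((rho (ev gTh [4, 10, 4, 6, 8, 11]) : Matrix (Fin 248) (Fin 248) (ZMod 3)) - 1).rank = 218 :=
  rank_of rfl (by decide) RkR7.rank_eq

theorem one_R8 : ev gTh [6, 4, 10, 4, 11] ^ 10 = 1 := one_of _ (by decide +kernel)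

theorem rk_R8 : ((rho (ev gTh [6, 4, 10, 4, 11]) : Matrix (Fin 248) (Fin 248) (ZMod 3)) - 1).rank = 224 :=
  rank_of rfl (by decide) RkR8.rank_eq

theorem one_R12 : ev gTh [8, 6, 11, 3] ^ 14 = 1 := one_of _ (by decide +kernel)

theorem rk_R12 : ((rho (ev gTh [8, 6, 11, 3]) : Matrix (Fin 248) (Fin 248) (ZMod 3)) - 1).rank = 230 :=
  rank_of rfl (by decide) RkR12.rank_eq

theorem one_R14 : ev gTh [4, 6, 8, 10] ^ 20 = 1 := one_of _ (by decide +kernel)

theorem rk_R14 : ((rho (ev gTh [4, 6, 8, 10]) : Matrix (Fin 248) (Fin 248) (ZMod 3)) - 1).rank = 236 :=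
  rank_of rfl (by decide) RkR14.rank_eq

theorem one_R17 : ev gTh [4, 5, 7, 3] ^ 28 = 1 := one_of _ (by decide +kernel)

theorem rk_R17 : ((rho (ev gTh [4, 5, 7, 3]) : Matrix (Fin 248) (Fin 248) (ZMod 3)) - 1).rank = 238 :=
  rank_of rfl (by decide) RkR17.rank_eq

theorem one_X5 : ev gTh [4, 7, 10, 4, 10] ^ 5 = 1 := one_of _ (by decide +kernel)

theorem rk_X5 : ((rho (ev gTh [4, 7, 10, 4, 10]) : Matrix (Fin 248) (Fin 248) (ZMod 3)) - 1).rank = 200 :=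
  rank_of rfl (by decide) RkX5.rank_eq

theorem one_X7 : ev gTh [6] ^ 7 = 1 := one_of _ (by decide +kernel)

theorem rk_X7 : ((rho (ev gTh [6]) : Matrix (Fin 248) (Fin 248) (ZMod 3)) - 1).rank = 210 :=
  rank_of rfl (by decide) RkX7.rank_eq

theorem val_R0 : B (ev gTh [1]) = -8 := by
  have hn := one_R0
  set g := ev gTh [1] with hg
  have h0 : B (g ^ 0) = 248 := by rw [pow_zero, B_one]
  have hs := sumB hn (by norm_num) rk_R0
  simp only [Finset.sum_range_succ, Finset.sum_range_zero] at hs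
  rw [h0] at hs
  rw [pow_one] at hs
  norm_num at hs
  linear_combination hs / 1

theorem val_R1 : B (ev gTh [3, 4, 3, 4]) = 8 := by
  have hn := one_R1
  set g := ev gTh [3, 4, 3, 4] with hg
  have h0 : B (g ^ 0) = 248 := by rw [pow_zero, B_one]
  have b2 : B (g ^ 2) = -8 := by
    have h1 : B (g ^ 2) = B (ev gTh [1]) := B_pow_of (x := []) 2 (by decide +kernel)
    rw [h1, val_R0]
  have s3 : B (g ^ 3) = B (g ^ 1) := step3 hn 1 0 3 (by norm_num)
  have hs := sumB hn (by norm_num) rk_R1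
  simp only [Finset.sum_range_succ, Finset.sum_range_zero] at hs
  rw [s3, b2, h0] at hs
  rw [pow_one] at hs
  norm_num at hs
  linear_combination hs / 2

theorem val_R2 : B (ev gTh [11, 4, 10, 4, 10, 4, 3, 4]) = 0 := by
  have hn := one_R2
  set g := ev gTh [11, 4, 10, 4, 10, 4, 3, 4] with hg
  have h0 : B (g ^ 0) = 248 := by rw [pow_zero, B_one]
  have b2 : B (g ^ 2) = -8 := by
    have h1 : B (g ^ 2) = B (ev gTh [1]) := B_pow_of (x := []) 2 (by decide +kernel)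
    rw [h1, val_R0]
  have s3 : B (g ^ 3) = B (g ^ 1) := step3 hn 1 0 3 (by norm_num)
  have hs := sumB hn (by norm_num) rk_R2
  simp only [Finset.sum_range_succ, Finset.sum_range_zero] at hs
  rw [s3, b2, h0] at hs
  rw [pow_one] at hs
  norm_num at hs
  linear_combination hs / 2

theorem val_X5 : B (ev gTh [4, 7, 10, 4, 10]) = -2 := by
  have hn := one_X5
  set g := ev gTh [4, 7, 10, 4, 10] with hg
  have h0 : B (g ^ 0) = 248 := by rw [pow_zero, B_one]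
  have s3 : B (g ^ 3) = B (g ^ 1) := step3 hn 1 0 3 (by norm_num)
  have s4 : B (g ^ 4) = B (g ^ 3) := step3 hn 3 1 4 (by norm_num)
  have s2 : B (g ^ 2) = B (g ^ 4) := step3 hn 4 2 2 (by norm_num)
  have hs := sumB hn (by norm_num) rk_X5
  simp only [Finset.sum_range_succ, Finset.sum_range_zero] at hs
  rw [s2, s4, s3, h0] at hs
  rw [pow_one] at hs
  norm_num at hs
  linear_combination hs / 4

theorem val_X7 : B (ev gTh [6]) = 3 := by
  have hn := one_X7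
  set g := ev gTh [6] with hg
  have h0 : B (g ^ 0) = 248 := by rw [pow_zero, B_one]
  have s3 : B (g ^ 3) = B (g ^ 1) := step3 hn 1 0 3 (by norm_num)
  have s2 : B (g ^ 2) = B (g ^ 3) := step3 hn 3 1 2 (by norm_num)
  have s6 : B (g ^ 6) = B (g ^ 2) := step3 hn 2 0 6 (by norm_num)
  have s4 : B (g ^ 4) = B (g ^ 6) := step3 hn 6 2 4 (by norm_num)
  have s5 : B (g ^ 5) = B (g ^ 4) := step3 hn 4 1 5 (by norm_num)
  have hs := sumB hn (by norm_num) rk_X7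
  simp only [Finset.sum_range_succ, Finset.sum_range_zero] at hs
  rw [s5, s4, s6, s2, s3, h0] at hs
  rw [pow_one] at hs
  norm_num at hs
  linear_combination hs / 6

theorem val_R6 : B (ev gTh [4, 3]) = 0 := by
  have hn := one_R6
  set g := ev gTh [4, 3] with hg
  have h0 : B (g ^ 0) = 248 := by rw [pow_zero, B_one]
  have b4 : B (g ^ 4) = -8 := by
    have h1 : B (g ^ 4) = B (ev gTh [1]) := B_pow_of (x := []) 4 (by decide +kernel)
    rw [h1, val_R0]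
  have b2 : B (g ^ 2) = 8 := by
    have h1 : B (g ^ 2) = B (ev gTh [3, 4, 3, 4]) := B_pow_of (x := [3]) 2 (by decide +kernel)
    rw [h1, val_R1]
  have hx : ev gTh [3] * g * (ev gTh [3])⁻¹ = g ^ 7 := conj_pow_of 7 (by decide +kernel)
  have s3 : B (g ^ 3) = B (g ^ 1) := step3 hn 1 0 3 (by norm_num)
  have s7 : B (g ^ 7) = B (g ^ 1) := stepE hn hx 1 0 7 (by norm_num)
  have s6 : B (g ^ 6) = B (g ^ 2) := step3 hn 2 0 6 (by norm_num)
  have s5 : B (g ^ 5) = B (g ^ 3) := stepE hn hx 3 2 5 (by norm_num)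
  have hs := sumB hn (by norm_num) rk_R6
  simp only [Finset.sum_range_succ, Finset.sum_range_zero] at hs
  rw [s5, s6, s7, s3, b4, b2, h0] at hs
  rw [pow_one] at hs
  norm_num at hs
  linear_combination hs / 4

theorem val_R7 : B (ev gTh [4, 10, 4, 6, 8, 11]) = 0 := by
  have hn := one_R7
  set g := ev gTh [4, 10, 4, 6, 8, 11] with hg
  have h0 : B (g ^ 0) = 248 := by rw [pow_zero, B_one]
  have b4 : B (g ^ 4) = -8 := by
    have h1 : B (g ^ 4) = B (ev gTh [1]) := B_pow_of (x := []) 4 (by decide +kernel)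
    rw [h1, val_R0]
  have b2 : B (g ^ 2) = 0 := by
    have h1 : B (g ^ 2) = B (ev gTh [11, 4, 10, 4, 10, 4, 3, 4]) := B_pow_of (x := [4, 8, 7, 10, 4, 3, 4]) 2 (by decide +kernel)
    rw [h1, val_R2]
  have hx : ev gTh [4, 7, 10, 4, 7, 7, 10, 3, 5, 4, 3, 4, 5, 6, 5, 4, 3, 4, 5, 7, 7, 7, 7, 5, 4, 3, 4, 5, 6, 6, 6] * g * (ev gTh [4, 7, 10, 4, 7, 7, 10, 3, 5, 4, 3, 4, 5, 6, 5, 4, 3, 4, 5, 7, 7, 7, 7, 5, 4, 3, 4, 5, 6, 6, 6])⁻¹ = g ^ 7 := conj_pow_of 7 (by decide +kernel)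
  have s3 : B (g ^ 3) = B (g ^ 1) := step3 hn 1 0 3 (by norm_num)
  have s7 : B (g ^ 7) = B (g ^ 1) := stepE hn hx 1 0 7 (by norm_num)
  have s6 : B (g ^ 6) = B (g ^ 2) := step3 hn 2 0 6 (by norm_num)
  have s5 : B (g ^ 5) = B (g ^ 3) := stepE hn hx 3 2 5 (by norm_num)
  have hs := sumB hn (by norm_num) rk_R7
  simp only [Finset.sum_range_succ, Finset.sum_range_zero] at hs
  rw [s5, s6, s7, s3, b4, b2, h0] at hs
  rw [pow_one] at hs
  norm_num at hs
  linear_combination hs / 4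

theorem val_R8 : B (ev gTh [6, 4, 10, 4, 11]) = 2 := by
  have hn := one_R8
  set g := ev gTh [6, 4, 10, 4, 11] with hg
  have h0 : B (g ^ 0) = 248 := by rw [pow_zero, B_one]
  have b5 : B (g ^ 5) = -8 := by
    have h1 : B (g ^ 5) = B (ev gTh [1]) := B_pow_of (x := []) 5 (by decide +kernel)
    rw [h1, val_R0]
  have b2 : B (g ^ 2) = -2 := by
    have h1 : B (g ^ 2) = B (ev gTh [4, 7, 10, 4, 10]) := B_pow_of (x := [7, 7, 7, 10, 3, 4, 3, 4, 5, 4, 3, 4, 5, 7, 7, 5, 4, 3, 4, 5, 7, 5, 4, 3, 4, 5, 6, 6, 5, 4, 3, 4, 5, 6, 6, 6, 6, 5, 4, 3, 4, 5, 7, 7, 7]) 2 (by decide +kernel)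
    rw [h1, val_X5]
  have s3 : B (g ^ 3) = B (g ^ 1) := step3 hn 1 0 3 (by norm_num)
  have s6 : B (g ^ 6) = B (g ^ 2) := step3 hn 2 0 6 (by norm_num)
  have s9 : B (g ^ 9) = B (g ^ 3) := step3 hn 3 0 9 (by norm_num)
  have s8 : B (g ^ 8) = B (g ^ 6) := step3 hn 6 1 8 (by norm_num)
  have s7 : B (g ^ 7) = B (g ^ 9) := step3 hn 9 2 7 (by norm_num)
  have s4 : B (g ^ 4) = B (g ^ 8) := step3 hn 8 2 4 (by norm_num)
  have hs := sumB hn (by norm_num) rk_R8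
  simp only [Finset.sum_range_succ, Finset.sum_range_zero] at hs
  rw [s4, s7, s8, s9, s6, s3, b5, b2, h0] at hs
  rw [pow_one] at hs
  norm_num at hs
  linear_combination hs / 4

theorem val_R12 : B (ev gTh [8, 6, 11, 3]) = -1 := by
  have hn := one_R12
  set g := ev gTh [8, 6, 11, 3] with hg
  have h0 : B (g ^ 0) = 248 := by rw [pow_zero, B_one]
  have b7 : B (g ^ 7) = -8 := by
    have h1 : B (g ^ 7) = B (ev gTh [1]) := B_pow_of (x := []) 7 (by decide +kernel)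
    rw [h1, val_R0]
  have b2 : B (g ^ 2) = 3 := by
    have h1 : B (g ^ 2) = B (ev gTh [6]) := B_pow_of (x := [4, 10, 7, 7]) 2 (by decide +kernel)
    rw [h1, val_X7]
  have s3 : B (g ^ 3) = B (g ^ 1) := step3 hn 1 0 3 (by norm_num)
  have s6 : B (g ^ 6) = B (g ^ 2) := step3 hn 2 0 6 (by norm_num)
  have s9 : B (g ^ 9) = B (g ^ 3) := step3 hn 3 0 9 (by norm_num)
  have s4 : B (g ^ 4) = B (g ^ 6) := step3 hn 6 1 4 (by norm_num)
  have s13 : B (g ^ 13) = B (g ^ 9) := step3 hn 9 1 13 (by norm_num)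
  have s12 : B (g ^ 12) = B (g ^ 4) := step3 hn 4 0 12 (by norm_num)
  have s11 : B (g ^ 11) = B (g ^ 13) := step3 hn 13 2 11 (by norm_num)
  have s8 : B (g ^ 8) = B (g ^ 12) := step3 hn 12 2 8 (by norm_num)
  have s5 : B (g ^ 5) = B (g ^ 11) := step3 hn 11 2 5 (by norm_num)
  have s10 : B (g ^ 10) = B (g ^ 8) := step3 hn 8 1 10 (by norm_num)
  have hs := sumB hn (by norm_num) rk_R12
  simp only [Finset.sum_range_succ, Finset.sum_range_zero] at hs
  rw [s10, s5, s8, s11, s12, s13, s4, s9, s6, s3, b7, b2, h0] at hs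
  rw [pow_one] at hs
  norm_num at hs
  linear_combination hs / 6

theorem val_R14 : B (ev gTh [4, 6, 8, 10]) = 0 := by
  have hn := one_R14
  set g := ev gTh [4, 6, 8, 10] with hg
  have h0 : B (g ^ 0) = 248 := by rw [pow_zero, B_one]
  have b10 : B (g ^ 10) = -8 := by
    have h1 : B (g ^ 10) = B (ev gTh [1]) := B_pow_of (x := []) 10 (by decide +kernel)
    rw [h1, val_R0]
  have b2 : B (g ^ 2) = 2 := by
    have h1 : B (g ^ 2) = B (ev gTh [6, 4, 10, 4, 11]) := B_pow_of (x := [6, 9, 10, 6, 5, 4, 3, 4, 5, 4, 3, 4, 5]) 2 (by decide +kernel)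
    rw [h1, val_R8]
  have b5 : B (g ^ 5) = 0 := by
    have h1 : B (g ^ 5) = B (ev gTh [11, 4, 10, 4, 10, 4, 3, 4]) := B_pow_of (x := [7, 7, 5, 4, 7, 5, 8, 7, 3, 4, 3, 4, 5, 4, 3, 4, 5]) 5 (by decide +kernel)
    rw [h1, val_R2]
  have b4 : B (g ^ 4) = -2 := by
    have h1 : B (g ^ 4) = B (ev gTh [4, 7, 10, 4, 10]) := B_pow_of (x := [6, 9, 6, 10, 7, 5, 4, 3, 4, 7, 5, 4, 3, 4, 5, 6]) 4 (by decide +kernel)
    rw [h1, val_X5]
  have hx : ev gTh [5, 6, 10, 4, 7, 10, 7, 5, 3] * g * (ev gTh [5, 6, 10, 4, 7, 10, 7, 5, 3])⁻¹ = g ^ 19 := conj_pow_of 19 (by decide +kernel)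
  have s3 : B (g ^ 3) = B (g ^ 1) := step3 hn 1 0 3 (by norm_num)
  have s19 : B (g ^ 19) = B (g ^ 1) := stepE hn hx 1 0 19 (by norm_num)
  have s6 : B (g ^ 6) = B (g ^ 2) := step3 hn 2 0 6 (by norm_num)
  have s18 : B (g ^ 18) = B (g ^ 2) := stepE hn hx 2 1 18 (by norm_num)
  have s15 : B (g ^ 15) = B (g ^ 5) := step3 hn 5 0 15 (by norm_num)
  have s12 : B (g ^ 12) = B (g ^ 4) := step3 hn 4 0 12 (by norm_num)
  have s16 : B (g ^ 16) = B (g ^ 4) := stepE hn hx 4 3 16 (by norm_num)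
  have s9 : B (g ^ 9) = B (g ^ 3) := step3 hn 3 0 9 (by norm_num)
  have s17 : B (g ^ 17) = B (g ^ 3) := stepE hn hx 3 2 17 (by norm_num)
  have s14 : B (g ^ 14) = B (g ^ 6) := stepE hn hx 6 5 14 (by norm_num)
  have s8 : B (g ^ 8) = B (g ^ 12) := stepE hn hx 12 11 8 (by norm_num)
  have s7 : B (g ^ 7) = B (g ^ 9) := step3 hn 9 1 7 (by norm_num)
  have s11 : B (g ^ 11) = B (g ^ 9) := stepE hn hx 9 8 11 (by norm_num)
  have s13 : B (g ^ 13) = B (g ^ 7) := stepE hn hx 7 6 13 (by norm_num)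
  have hs := sumB hn (by norm_num) rk_R14
  simp only [Finset.sum_range_succ, Finset.sum_range_zero] at hs
  rw [s13, s11, s7, s8, s14, s17, s9, s16, s12, s15, s18, s6, s19, s3, b10, b2, b5, b4, h0] at hs
  rw [pow_one] at hs
  norm_num at hs
  linear_combination hs / 8

theorem val_R17 : B (ev gTh [4, 5, 7, 3]) = 1 := by
  have hn := one_R17
  set g := ev gTh [4, 5, 7, 3] with hg
  have h0 : B (g ^ 0) = 248 := by rw [pow_zero, B_one]
  have b14 : B (g ^ 14) = -8 := by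
    have h1 : B (g ^ 14) = B (ev gTh [1]) := B_pow_of (x := []) 14 (by decide +kernel)
    rw [h1, val_R0]
  have b2 : B (g ^ 2) = -1 := by
    have h1 : B (g ^ 2) = B (ev gTh [8, 6, 11, 3]) := B_pow_of (x := [5, 9, 6, 10, 4, 5, 6, 5, 4, 3, 4, 5, 6, 5, 4, 3, 4, 5, 7, 7, 7, 7, 5, 4, 3, 4, 5, 6, 6, 6]) 2 (by decide +kernel)
    rw [h1, val_R12]
  have b4 : B (g ^ 4) = 3 := by
    have h1 : B (g ^ 4) = B (ev gTh [6]) := B_pow_of (x := [4, 5, 4, 7, 5, 8, 6, 5, 4, 3, 4, 5, 6, 5, 4, 3, 4, 5, 7, 7, 7, 7, 5, 4, 3, 4, 5, 6, 6, 6]) 4 (by decide +kernel)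
    rw [h1, val_X7]
  have b7 : B (g ^ 7) = 8 := by
    have h1 : B (g ^ 7) = B (ev gTh [3, 4, 3, 4]) := B_pow_of (x := [5, 4, 6, 5, 4, 5, 4, 3, 4, 5, 6]) 7 (by decide +kernel)
    rw [h1, val_R1]
  have hx : ev gTh [7, 5, 4, 3, 4, 5, 6] * g * (ev gTh [7, 5, 4, 3, 4, 5, 6])⁻¹ = g ^ 15 := conj_pow_of 15 (by decide +kernel)
  have s3 : B (g ^ 3) = B (g ^ 1) := step3 hn 1 0 3 (by norm_num)
  have s15 : B (g ^ 15) = B (g ^ 1) := stepE hn hx 1 0 15 (by norm_num)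
  have s6 : B (g ^ 6) = B (g ^ 2) := step3 hn 2 0 6 (by norm_num)
  have s12 : B (g ^ 12) = B (g ^ 4) := step3 hn 4 0 12 (by norm_num)
  have s21 : B (g ^ 21) = B (g ^ 7) := step3 hn 7 0 21 (by norm_num)
  have s9 : B (g ^ 9) = B (g ^ 3) := step3 hn 3 0 9 (by norm_num)
  have s17 : B (g ^ 17) = B (g ^ 3) := stepE hn hx 3 1 17 (by norm_num)
  have s18 : B (g ^ 18) = B (g ^ 6) := step3 hn 6 0 18 (by norm_num)
  have s8 : B (g ^ 8) = B (g ^ 12) := step3 hn 12 1 8 (by norm_num)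
  have s27 : B (g ^ 27) = B (g ^ 9) := step3 hn 9 0 27 (by norm_num)
  have s23 : B (g ^ 23) = B (g ^ 9) := stepE hn hx 9 4 23 (by norm_num)
  have s26 : B (g ^ 26) = B (g ^ 18) := step3 hn 18 1 26 (by norm_num)
  have s24 : B (g ^ 24) = B (g ^ 8) := step3 hn 8 0 24 (by norm_num)
  have s25 : B (g ^ 25) = B (g ^ 27) := step3 hn 27 2 25 (by norm_num)
  have s13 : B (g ^ 13) = B (g ^ 27) := stepE hn hx 27 14 13 (by norm_num)
  have s22 : B (g ^ 22) = B (g ^ 26) := step3 hn 26 2 22 (by norm_num)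
  have s16 : B (g ^ 16) = B (g ^ 24) := step3 hn 24 2 16 (by norm_num)
  have s19 : B (g ^ 19) = B (g ^ 25) := step3 hn 25 2 19 (by norm_num)
  have s11 : B (g ^ 11) = B (g ^ 25) := stepE hn hx 25 13 11 (by norm_num)
  have s10 : B (g ^ 10) = B (g ^ 22) := step3 hn 22 2 10 (by norm_num)
  have s20 : B (g ^ 20) = B (g ^ 16) := step3 hn 16 1 20 (by norm_num)
  have s5 : B (g ^ 5) = B (g ^ 19) := stepE hn hx 19 10 5 (by norm_num)
  have hs := sumB hn (by norm_num) rk_R17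
  simp only [Finset.sum_range_succ, Finset.sum_range_zero] at hs
  rw [s5, s20, s10, s11, s19, s16, s22, s13, s25, s24, s26, s23, s27, s8, s18, s17, s9, s21, s12, s6, s15, s3, b14, b2, b4, b7, h0] at hs
  rw [pow_one] at hs
  norm_num at hs
  linear_combination hs / 12

end Cfsg.Agent.H227.ThB
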